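import Mathlib

/-! Integral closure of a reduced Noetherian ring in its total fraction ring as a product over the
minimal primes. Author: helper54. -/

set_option autoImplicit false
universe u

open nonZeroDivisors

namespace Groth.ReducedNormal

/-- Localizing at a prime commutes with a surjection whose kernel is killed by an element outside
the prime. -/
theorem nonempty_localization_equiv {B C : Type u} [CommRing B] [CommRing C] (f : B →+* C)
    (hf : Function.Surjective f) (p : Ideal B) [p.IsPrime] (e : B) (he : e ∉ p)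
    (hker : ∀ z, f z = 0 → e * z = 0) :
    ∃ (q : Ideal C) (_ : q.IsPrime),
      Nonempty (Localization.AtPrime q ≃+* Localization.AtPrime p) := by
  have hkp : RingHom.ker f ≤ p := fun z hz =>
    (‹p.IsPrime›.mem_or_mem (show e * z ∈ p by rw [hker z hz]; exact p.zero_mem)).resolve_left he
  have hq : (p.map f).IsPrime := Ideal.map_isPrime_of_surjective hf hkp
  refine ⟨p.map f, hq, ?_⟩
  have hmem : ∀ y, f y ∈ p.map f → y ∈ p := fun y hy => by
    have := Ideal.mem_comap.mpr hy
    rwa [Ideal.comap_map_of_surjective f hf, ← RingHom.ker_eq_comap_bot,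
      sup_eq_left.mpr hkp] at this
  let g : B →+* Localization.AtPrime (p.map f) := (algebraMap C _).comp f
  let := g.toAlgebra
  have : IsLocalization.AtPrime (Localization.AtPrime (p.map f)) p := by
    constructor
    constructor
    · intro y
      exact IsLocalization.map_units _ (⟨f y, fun h => y.2 (hmem _ h)⟩ : (p.map f).primeCompl)
    · intro z
      obtain ⟨⟨x, s⟩, hxs⟩ := IsLocalization.surj (p.map f).primeCompl z
      obtain ⟨x', rfl⟩ := hf x
      obtain ⟨s', hs'⟩ := hf s
      refine ⟨(x', ⟨s', fun h => s.2 (hs' ▸ Ideal.mem_map_of_mem f h)⟩), ?_⟩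
      show z * algebraMap C _ (f s') = algebraMap C _ (f x')
      rw [hs']; exact hxs
    · intro x y hxy
      obtain ⟨c, hc⟩ := (IsLocalization.eq_iff_exists (p.map f).primeCompl _).mp
        (show algebraMap C (Localization.AtPrime (p.map f)) (f x) = algebraMap C _ (f y) from hxy)
      obtain ⟨c', hc'⟩ := hf c
      have h0 : e * (c' * x - c' * y) = 0 := hker _ (by
        rw [map_sub, map_mul, map_mul, hc', hc, sub_self])
      have hc'p : c' ∉ p := fun h => c.2 (hc' ▸ Ideal.mem_map_of_mem f h)
      refine ⟨⟨e * c', fun h => (‹p.IsPrime›.mem_or_mem h).elim he hc'p⟩, ?_⟩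
      show e * c' * x = e * c' * y
      linear_combination h0
  exact ⟨(IsLocalization.algEquiv p.primeCompl (Localization.AtPrime (p.map f))
    (Localization.AtPrime p)).toRingEquiv⟩

variable (A : Type u) [CommRing A] [IsNoetherianRing A] [IsReduced A]

lemma mem_nonZeroDivisors_of_forall {t : A} (ht : ∀ P ∈ minimalPrimes A, t ∉ P) : t ∈ A⁰ := by
  rw [mem_nonZeroDivisors_iff_right]
  intro x hx
  have : x ∈ nilradical A := by
    rw [nilradical, ← Ideal.sInf_minimalPrimes, Submodule.mem_sInf]
    intro P hP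
    exact ((Ideal.minimalPrimes_isPrime hP).mem_or_mem (hx ▸ P.zero_mem)).resolve_right (ht P hP)
  rwa [nilradical_eq_zero] at this

/-- A separating element. -/
lemma exists_sep : ∃ a : minimalPrimes A → A, ∀ P Q : minimalPrimes A, a P ∈ Q.1 ↔ P ≠ Q := by
  classical
  have := (minimalPrimes.finite_of_isNoetherianRing A).to_subtype
  have := Fintype.ofFinite (minimalPrimes A)
  suffices ∀ P : minimalPrimes A, ∃ a : A, ∀ Q : minimalPrimes A, a ∈ Q.1 ↔ P ≠ Q by
    choose a ha using this; exact ⟨a, ha⟩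
  intro P
  have hP := Ideal.minimalPrimes_isPrime P.2
  choose b hbQ hbP using fun Q : {Q : minimalPrimes A // P ≠ Q} =>
    Set.not_subset.mp (fun h : (Q.1.1 : Set A) ⊆ P.1 => Q.2 (Subtype.ext
      (le_antisymm (P.2.2 ⟨Ideal.minimalPrimes_isPrime Q.1.2, bot_le⟩ h) h)))
  refine ⟨∏ Q, b Q, fun Q => ⟨fun h hPQ => ?_, fun h => ?_⟩⟩
  · subst hPQ
    obtain ⟨Q', -, h'⟩ := (hP.prod_mem_iff).mp h
    exact hbP Q' h'
  · exact Ideal.mem_of_dvd _ (Finset.dvd_prod_of_mem b (Finset.mem_univ ⟨Q, h⟩)) (hbQ ⟨Q, h⟩)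

/-- The `A`-algebra map from the total fraction ring to the fraction field of `A ⧸ P`. -/
noncomputable def proj (P : minimalPrimes A) :
    haveI := Ideal.minimalPrimes_isPrime P.2
    FractionRing A →ₐ[A] FractionRing (A ⧸ P.1) :=
  haveI := Ideal.minimalPrimes_isPrime P.2
  IsLocalization.liftAlgHom (M := A⁰) (f := IsScalarTower.toAlgHom A A (FractionRing (A ⧸ P.1)))
    (fun y => by
      refine isUnit_iff_ne_zero.mpr fun h => ?_
      have h1 : algebraMap (A ⧸ P.1) (FractionRing (A ⧸ P.1)) (Ideal.Quotient.mk P.1 y) = 0 := by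
        rw [← Ideal.Quotient.algebraMap_eq, ← IsScalarTower.algebraMap_apply]; simpa using h
      rw [IsFractionRing.to_map_eq_zero_iff, Ideal.Quotient.eq_zero_iff_mem] at h1
      exact Set.disjoint_left.mp (Ideal.disjoint_nonZeroDivisors_of_mem_minimalPrimes P.2) h1 y.2)

lemma proj_eq_zero_iff (P : minimalPrimes A) (x : A) :
    haveI := Ideal.minimalPrimes_isPrime P.2
    algebraMap A (FractionRing (A ⧸ P.1)) x = 0 ↔ x ∈ P.1 := by
  have := Ideal.minimalPrimes_isPrime P.2
  rw [IsScalarTower.algebraMap_apply A (A ⧸ P.1), IsFractionRing.to_map_eq_zero_iff,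
    Ideal.Quotient.algebraMap_eq, Ideal.Quotient.eq_zero_iff_mem]

lemma eq_zero_of_forall_proj (x : FractionRing A) (h : ∀ P, proj A P x = 0) : x = 0 := by
  obtain ⟨a, s, rfl⟩ := IsLocalization.exists_mk'_eq A⁰ x
  have hx := IsLocalization.mk'_spec (FractionRing A) a s
  have ha : a = 0 := by
    have : a ∈ nilradical A := by
      rw [nilradical, ← Ideal.sInf_minimalPrimes, Submodule.mem_sInf]
      intro P hP
      refine (proj_eq_zero_iff A ⟨P, hP⟩ a).mp ?_
      have h1 := congrArg (proj A ⟨P, hP⟩) hx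
      rw [map_mul, h ⟨P, hP⟩, zero_mul, AlgHom.commutes] at h1
      exact h1.symm
    rwa [nilradical_eq_zero] at this
  rw [ha, IsLocalization.mk'_zero]

/-- Idempotents separating the minimal primes. -/
lemma exists_idem : ∃ e : minimalPrimes A → FractionRing A,
    (∀ P, IsIntegral A (e P)) ∧ (∀ P, proj A P (e P) = 1) ∧ ∀ P Q, P ≠ Q → proj A Q (e P) = 0 := by
  classical
  have := (minimalPrimes.finite_of_isNoetherianRing A).to_subtype
  have := Fintype.ofFinite (minimalPrimes A)
  obtain ⟨a, ha⟩ := exists_sep A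
  have hs : ∑ P, a P ∈ A⁰ := mem_nonZeroDivisors_of_forall A fun Q hQ h => by
    rw [← Finset.add_sum_erase _ _ (Finset.mem_univ ⟨Q, hQ⟩)] at h
    have h2 : ∑ P ∈ Finset.univ.erase ⟨Q, hQ⟩, a P ∈ Q :=
      Q.sum_mem fun P hP => (ha P ⟨Q, hQ⟩).mpr (Finset.mem_erase.mp hP).1
    exact (ha ⟨Q, hQ⟩ ⟨Q, hQ⟩).mp ((Ideal.add_mem_iff_left Q h2).mp h) rfl
  let e : minimalPrimes A → FractionRing A := fun P => IsLocalization.mk' _ (a P) ⟨_, hs⟩
  have hspec : ∀ P Q, proj A Q (e P) * algebraMap A _ (∑ R, a R) = algebraMap A _ (a P) := fun P Q => by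
    rw [← AlgHom.commutes (proj A Q), ← map_mul, IsLocalization.mk'_spec, AlgHom.commutes]
  have hsum : ∀ Q : minimalPrimes A,
      haveI := Ideal.minimalPrimes_isPrime Q.2
      algebraMap A (FractionRing (A ⧸ Q.1)) (∑ R, a R) = algebraMap A _ (a Q) := fun Q => by
    rw [map_sum]
    exact Finset.sum_eq_single Q (fun P _ hP => (proj_eq_zero_iff A Q _).mpr ((ha P Q).mpr hP))
      (by simp)
  have hne : ∀ Q : minimalPrimes A,
      haveI := Ideal.minimalPrimes_isPrime Q.2
      algebraMap A (FractionRing (A ⧸ Q.1)) (a Q) ≠ 0 := fun Q h =>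
    (ha Q Q).mp ((proj_eq_zero_iff A Q _).mp h) rfl
  have h1 : ∀ P, proj A P (e P) = 1 := fun P => by
    have := Ideal.minimalPrimes_isPrime P.2
    have := hspec P P
    rw [hsum P] at this
    exact mul_right_cancel₀ (hne P) (by rw [this, one_mul])
  have h0 : ∀ P Q, P ≠ Q → proj A Q (e P) = 0 := fun P Q hPQ => by
    have := Ideal.minimalPrimes_isPrime Q.2
    have := hspec P Q
    rw [hsum Q, (proj_eq_zero_iff A Q _).mpr ((ha P Q).mpr hPQ)] at this
    exact (mul_eq_zero.mp this).resolve_right (hne Q)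
  refine ⟨e, fun P => ⟨Polynomial.X ^ 2 - Polynomial.X, ?_, ?_⟩, h1, h0⟩
  · have : Nontrivial A := ⟨1, 0, fun h => (Ideal.minimalPrimes_isPrime P.2).ne_top
      ((Ideal.eq_top_iff_one _).mpr (h ▸ P.1.zero_mem))⟩
    exact Polynomial.monic_X_pow_sub (by rw [Polynomial.degree_X]; norm_num)
  · rw [← Polynomial.aeval_def, map_sub, map_pow, Polynomial.aeval_X]
    refine eq_zero_of_forall_proj A _ fun Q => ?_
    rw [map_sub, map_pow]
    by_cases hPQ : P = Q
    · subst hPQ; simp [h1]
    · simp [h0 P Q hPQ]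

/-- The map of integral closures induced by `proj`. -/
noncomputable def projClosure (P : minimalPrimes A) :
    haveI := Ideal.minimalPrimes_isPrime P.2
    integralClosure A (FractionRing A) →ₐ[A] integralClosure A (FractionRing (A ⧸ P.1)) :=
  haveI := Ideal.minimalPrimes_isPrime P.2
  ((proj A P).comp (integralClosure A (FractionRing A)).val).codRestrict _
    fun z => z.2.map (proj A P)

lemma projClosure_surjective (P : minimalPrimes A) : Function.Surjective (projClosure A P) := by
  classical
  have := Ideal.minimalPrimes_isPrime P.2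
  have := (minimalPrimes.finite_of_isNoetherianRing A).to_subtype
  have := Fintype.ofFinite (minimalPrimes A)
  obtain ⟨a, ha⟩ := exists_sep A
  obtain ⟨e, -, he1, he0⟩ := exists_idem A
  intro z
  obtain ⟨x, y, hy, hxy⟩ := IsFractionRing.div_surjective (A := A ⧸ P.1)
    (z : FractionRing (A ⧸ P.1))
  obtain ⟨x, rfl⟩ := Ideal.Quotient.mk_surjective x
  obtain ⟨y, rfl⟩ := Ideal.Quotient.mk_surjective y
  have hyP : y ∉ P.1 := fun h => nonZeroDivisors.ne_zero hy (Ideal.Quotient.eq_zero_iff_mem.mpr h)
  let t := y * a P + ∑ Q ∈ Finset.univ.erase P, a Q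
  have haP : ∑ Q ∈ Finset.univ.erase P, a Q ∈ P.1 :=
    P.1.sum_mem fun Q hQ => (ha Q P).mpr (Finset.mem_erase.mp hQ).1
  have ht : t ∈ A⁰ := mem_nonZeroDivisors_of_forall A fun Q hQ h => by
    have hQp := Ideal.minimalPrimes_isPrime hQ
    by_cases hPQ : P = ⟨Q, hQ⟩
    · subst hPQ
      have := (Ideal.add_mem_iff_left Q haP).mp h
      exact (hQp.mem_or_mem this).elim hyP fun h' => (ha ⟨Q, hQ⟩ ⟨Q, hQ⟩).mp h' rfl
    · have h2 := (Ideal.add_mem_iff_right Q (Q.mul_mem_left y ((ha P ⟨Q, hQ⟩).mpr hPQ))).mp h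
      rw [← Finset.add_sum_erase _ _ (Finset.mem_erase.mpr ⟨Ne.symm hPQ, Finset.mem_univ (⟨Q, hQ⟩ : minimalPrimes A)⟩)] at h2
      have h3 : ∑ R ∈ (Finset.univ.erase P).erase ⟨Q, hQ⟩, a R ∈ Q :=
        Q.sum_mem fun R hR => (ha R ⟨Q, hQ⟩).mpr (Finset.mem_erase.mp hR).1
      exact (ha ⟨Q, hQ⟩ ⟨Q, hQ⟩).mp ((Ideal.add_mem_iff_left Q h3).mp h2) rfl
  let w : FractionRing A := IsLocalization.mk' _ (x * a P) ⟨t, ht⟩ * e P
  have hw0 : ∀ Q, P ≠ Q → proj A Q w = 0 := fun Q hQ => by simp [w, he0 P Q hQ]
  have hwP : proj A P w = z := by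
    have h := congrArg (proj A P) (IsLocalization.mk'_spec (FractionRing A) (x * a P) ⟨t, ht⟩)
    rw [map_mul, AlgHom.commutes, AlgHom.commutes] at h
    simp only [t, map_add, map_mul] at h
    rw [(proj_eq_zero_iff A P _).mpr haP, add_zero] at h
    have hy0 : algebraMap A (FractionRing (A ⧸ P.1)) y ≠ 0 :=
      fun h' => hyP ((proj_eq_zero_iff A P y).mp h')
    have ha0 : algebraMap A (FractionRing (A ⧸ P.1)) (a P) ≠ 0 :=
      fun h' => (ha P P).mp ((proj_eq_zero_iff A P _).mp h') rfl
    rw [show proj A P w = proj A P (IsLocalization.mk' _ (x * a P) ⟨t, ht⟩) by simp [w, he1 P], ← hxy]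
    change _ = algebraMap A (FractionRing (A ⧸ P.1)) x / algebraMap A (FractionRing (A ⧸ P.1)) y
    rw [eq_div_iff hy0]
    exact mul_right_cancel₀ ha0 (by linear_combination h)
  have hw : IsIntegral A w := by
    obtain ⟨F, hF, hFz⟩ := z.2
    refine ⟨Polynomial.X * F, Polynomial.monic_X.mul hF, ?_⟩
    rw [← Polynomial.aeval_def, map_mul, Polynomial.aeval_X]
    refine eq_zero_of_forall_proj A _ fun Q => ?_
    rw [map_mul]
    by_cases hPQ : P = Q
    · subst hPQ
      rw [← Polynomial.aeval_algHom_apply, hwP, Polynomial.aeval_def, hFz, mul_zero]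
    · rw [hw0 Q hPQ, zero_mul]
  exact ⟨⟨w, hw⟩, Subtype.ext hwP⟩

lemma finite_integralClosure
    (h : ∀ P : minimalPrimes A, haveI := Ideal.minimalPrimes_isPrime P.2
      Module.Finite A (integralClosure A (FractionRing (A ⧸ P.1)))) :
    Module.Finite A (integralClosure A (FractionRing A)) := by
  have := (minimalPrimes.finite_of_isNoetherianRing A).to_subtype
  have := Fintype.ofFinite (minimalPrimes A)
  refine Module.Finite.of_injective (LinearMap.pi fun P => (projClosure A P).toLinearMap) ?_
  rw [injective_iff_map_eq_zero]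
  intro z hz
  refine Subtype.ext (eq_zero_of_forall_proj A _ fun P => ?_)
  exact congrArg Subtype.val (congrFun hz P)

/-- Quotient by the base ring has finite length in dimension one. -/
lemma length_ne_top_of_dim_one [IsLocalRing A] (hdim : ringKrullDim A = 1)
    [Module.Finite A (integralClosure A (FractionRing A))] :
    Module.length A ((integralClosure A (FractionRing A)) ⧸
      LinearMap.range (Algebra.linearMap A (integralClosure A (FractionRing A)))) ≠ ⊤ := by
  classical
  set B := integralClosure A (FractionRing A)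
  set L := LinearMap.range (Algebra.linearMap A B)
  obtain ⟨G, hG⟩ := Module.Finite.fg_top (R := A) (M := B)
  obtain ⟨c, hc⟩ := IsLocalization.exist_integer_multiples_of_finset A⁰ (G.image Subtype.val)
  have hkill : ∀ z : B ⧸ L, (c : A) • z = 0 := by
    intro z
    obtain ⟨z, rfl⟩ := Submodule.Quotient.mk_surjective _ z
    rw [← Submodule.Quotient.mk_smul, Submodule.Quotient.mk_eq_zero]
    have : z ∈ Submodule.span A (G : Set B) := hG ▸ Submodule.mem_top
    induction this using Submodule.span_induction with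
    | mem g hg =>
      obtain ⟨b, hb⟩ := hc g.1 (Finset.mem_image_of_mem _ hg)
      exact ⟨b, Subtype.ext hb⟩
    | zero => simp
    | add p q _ _ hp hq => rw [smul_add]; exact add_mem hp hq
    | smul r p _ hp => rw [smul_comm]; exact L.smul_mem r hp
  set I := Ideal.span {(c : A)}
  have hart : IsArtinianRing (A ⧸ I) := by
    have : Ring.KrullDimLE 0 (A ⧸ I) := Ring.KrullDimLE.mk₀ fun q hq => by
      have hcq : (c : A) ∈ q.comap (Ideal.Quotient.mk I) := by
        rw [Ideal.mem_comap, Ideal.Quotient.eq_zero_iff_mem.mpr (Ideal.mem_span_singleton_self _)]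
        exact q.zero_mem
      have heq : q.comap (Ideal.Quotient.mk I) = IsLocalRing.maximalIdeal A := by
        by_contra hne
        have hqp := hq.comap (Ideal.Quotient.mk I)
        obtain ⟨P, hP, hPq⟩ := Ideal.exists_minimalPrimes_le (I := (⊥ : Ideal A)) (bot_le (a := q.comap (Ideal.Quotient.mk I)))
        have hlt : P < q.comap (Ideal.Quotient.mk I) := lt_of_le_of_ne hPq fun h =>
          Set.disjoint_left.mp (Ideal.disjoint_nonZeroDivisors_of_mem_minimalPrimes hP) (h ▸ hcq) c.2
        have hlt2 : q.comap (Ideal.Quotient.mk I) < IsLocalRing.maximalIdeal A :=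
          lt_of_le_of_ne (IsLocalRing.le_maximalIdeal hqp.ne_top) hne
        have h2 : ((2 : ℕ) : WithBot ℕ∞) ≤ ringKrullDim A := Order.le_krullDim_iff.mpr
          ⟨LTSeries.mk 2 ![(⟨P, Ideal.minimalPrimes_isPrime hP⟩ : PrimeSpectrum A), ⟨_, hqp⟩,
            ⟨_, (IsLocalRing.maximalIdeal.isMaximal A).isPrime⟩] (by
              rw [Fin.strictMono_iff_lt_succ]
              intro i; fin_cases i
              · exact hlt
              · exact hlt2), rfl⟩
        rw [hdim] at h2
        norm_cast at h2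
      rw [← Ideal.map_comap_of_surjective _ Ideal.Quotient.mk_surjective q, heq]
      refine (Ideal.map_eq_top_or_isMaximal_of_surjective _ Ideal.Quotient.mk_surjective
        inferInstance).resolve_left ?_
      rw [← heq, Ideal.map_comap_of_surjective _ Ideal.Quotient.mk_surjective q]
      exact hq.ne_top
    exact isArtinianRing_iff_krullDimLE_zero.mpr inferInstance
  have hI : Module.length A (A ⧸ I) ≠ ⊤ := by
    rw [show Module.length A (A ⧸ I) = Module.length (A ⧸ I) (A ⧸ I) from
      Module.length_eq_of_surjective Ideal.Quotient.mk_surjective]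
    exact Module.length_ne_top
  obtain ⟨n, g, hg⟩ := Module.Finite.exists_fin' A (B ⧸ L)
  let π : (Fin n → A) →ₗ[A] (Fin n → A ⧸ I) := LinearMap.compLeft I.mkQ (Fin n)
  have hπ : Function.Surjective π := fun v => by
    choose w hw using fun i => I.mkQ_surjective (v i)
    exact ⟨w, funext hw⟩
  have hle : LinearMap.ker π ≤ LinearMap.ker g := by
    intro v hv
    have : ∀ i, ∃ r, v i = r * c := fun i => by
      obtain ⟨r, hr⟩ := Ideal.mem_span_singleton'.mp ((Submodule.Quotient.mk_eq_zero _).mp (congrFun hv i))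
      exact ⟨r, hr.symm⟩
    choose r hr using this
    have hv' : v = (c : A) • r := funext fun i => by simp [hr i, mul_comm]
    rw [LinearMap.mem_ker, hv', map_smul, hkill]
  let g' : (Fin n → A ⧸ I) →ₗ[A] B ⧸ L :=
    ((LinearMap.ker π).liftQ g hle).comp (π.quotKerEquivOfSurjective hπ).symm.toLinearMap
  refine ne_top_of_le_ne_top ?_ (Module.length_le_of_surjective g' ?_)
  · rw [Module.length_pi_of_fintype]
    exact WithTop.sum_ne_top.mpr fun _ _ => hI
  · rw [LinearMap.coe_comp]
    refine Function.Surjective.comp ?_ (π.quotKerEquivOfSurjective hπ).symm.surjective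
    intro z
    obtain ⟨v, rfl⟩ := hg z
    exact ⟨Submodule.Quotient.mk v, rfl⟩

/-- `A'` is normal. -/
theorem normal_localization (p : Ideal (integralClosure A (FractionRing A))) [p.IsPrime] :
    IsDomain (Localization.AtPrime p) ∧ IsIntegrallyClosed (Localization.AtPrime p) := by
  classical
  have := (minimalPrimes.finite_of_isNoetherianRing A).to_subtype
  have := Fintype.ofFinite (minimalPrimes A)
  obtain ⟨e, hei, he1, he0⟩ := exists_idem A
  let E : minimalPrimes A → integralClosure A (FractionRing A) := fun P => ⟨e P, hei P⟩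
  obtain ⟨P, hP⟩ : ∃ P, E P ∉ p := by
    by_contra! h
    refine ‹p.IsPrime›.ne_top ((Ideal.eq_top_iff_one _).mpr ?_)
    have : ∑ P, E P = 1 := Subtype.ext (sub_eq_zero.mp (eq_zero_of_forall_proj A _ fun Q => by
      simp only [E, AddSubmonoidClass.coe_finsetSum, OneMemClass.coe_one, map_sub, map_sum, map_one]
      rw [Finset.sum_eq_single Q (fun R _ hR => he0 R Q hR) (by simp), he1, sub_self]))
    exact this ▸ p.sum_mem fun P _ => h P
  have := Ideal.minimalPrimes_isPrime P.2
  obtain ⟨q, hq, ⟨φ⟩⟩ := nonempty_localization_equiv (projClosure A P).toRingHom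
    (projClosure_surjective A P) p (E P) hP fun z hz => by
      refine Subtype.ext (eq_zero_of_forall_proj A _ fun Q => ?_)
      simp only [E, MulMemClass.coe_mul, map_mul]
      by_cases hPQ : P = Q
      · subst hPQ
        have : proj A P (z : FractionRing A) = 0 := congrArg Subtype.val hz
        rw [this, mul_zero]
      · rw [he0 P Q hPQ, zero_mul]
  have : IsFractionRing (A ⧸ P.1) (FractionRing (A ⧸ P.1)) := inferInstance
  let C := integralClosure A (FractionRing (A ⧸ P.1))
  have hC : IsIntegrallyClosed C := by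
    let C' := integralClosure (A ⧸ P.1) (FractionRing (A ⧸ P.1))
    have : IsIntegrallyClosed C' := integralClosure.isIntegrallyClosedOfFiniteExtension (FractionRing (A ⧸ P.1))
    have heq : ∀ x : FractionRing (A ⧸ P.1), IsIntegral (A ⧸ P.1) x ↔ IsIntegral A x :=
      fun x => ⟨isIntegral_trans x, IsIntegral.tower_top⟩
    exact IsIntegrallyClosed.of_equiv
      ({ toFun := fun x => ⟨x.1, (heq _).mp x.2⟩, invFun := fun x => ⟨x.1, (heq _).mpr x.2⟩,
         left_inv := fun _ => rfl, right_inv := fun _ => rfl,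
         map_mul' := fun _ _ => rfl, map_add' := fun _ _ => rfl } : C' ≃+* C)
  have : IsDomain (Localization.AtPrime q) :=
    IsLocalization.isDomain_of_le_nonZeroDivisors (Localization.AtPrime q) q.primeCompl_le_nonZeroDivisors
  have : IsIntegrallyClosed (Localization.AtPrime q) :=
    isIntegrallyClosed_of_isLocalization (Localization.AtPrime q) q.primeCompl q.primeCompl_le_nonZeroDivisors
  exact ⟨φ.symm.toMulEquiv.isDomain _, IsIntegrallyClosed.of_equiv φ⟩

end Groth.ReducedNormal
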